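import Mathlib
import Cfsg.Agent.Helper9.Co3O.BrData

set_option autoImplicit false
set_option Elab.async false

/-! Kernel checks of the bridge, a part. -/

noncomputable section

namespace Cfsg.Agent.Helper9.Co3O

open Cfsg.Agent.Helper9.OutG Cfsg.Agent.Helper9.LeechAct Cfsg.Agent.Helper9.J3

set_option maxRecDepth 1000000 in
theorem br_hact_6 : allC (actChk dD dBr) 6 138 = true := by decide +kernel

set_option maxRecDepth 1000000 in
theorem br_hact_7 : allC (actChk dD dBr) 7 138 = true := by decide +kernel

set_option maxRecDepth 1000000 in
theorem br_hact_8 : allC (actChk dD dBr) 8 138 = true := by decide +kernel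

set_option maxRecDepth 1000000 in
theorem br_hact_9 : allC (actChk dD dBr) 9 138 = true := by decide +kernel

set_option maxRecDepth 1000000 in
theorem br_hact_10 : allC (actChk dD dBr) 10 138 = true := by decide +kernel

set_option maxRecDepth 1000000 in
theorem br_hact_11 : allC (actChk dD dBr) 11 138 = true := by decide +kernel

end Cfsg.Agent.Helper9.Co3O

end
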