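import Mathlib
import Cfsg.Agent.Helper9.Co3O.BrData
import Cfsg.Agent.Helper9.Co3O.BrA0
import Cfsg.Agent.Helper9.Co3O.BrA1
import Cfsg.Agent.Helper9.Co3O.BrA2

set_option autoImplicit false
set_option Elab.async false

/-! Kernel checks of the bridge. -/

noncomputable section

namespace Cfsg.Agent.Helper9.Co3O

open Cfsg.Agent.Helper9.OutG Cfsg.Agent.Helper9.LeechAct Cfsg.Agent.Helper9.J3

set_option maxRecDepth 1000000 in
theorem br_hlet : dBr.lws.all (fun w => w.all letOK) = true := by decide +kernel

set_option maxRecDepth 1000000 in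
theorem br_hfix : (List.range dD.L).all (fun l => dFix.all (fun f => wordL (nthLW dBr.lws l) f == f)) = true := by decide +kernel

set_option maxRecDepth 1000000 in
theorem br_htree_b : allB (treeChk dD dBr) dD.n = true := by decide +kernel

set_option maxRecDepth 1000000 in
theorem br_hsrt_b : allB (srtChk dBr) (dD.n - 1) = true := by decide +kernel

theorem br_hact : ∀ v < dD.L * dD.n, actChk dD dBr v = true := by
  intro v hv
  have h2 : dD.L * dD.n = 16 * 138 := by decide
  rw [h2] at hv
  refine allC_true (K := 16) (c := 138) ?_ hv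
  intro i hi
  interval_cases i
  · exact br_hact_0
  · exact br_hact_1
  · exact br_hact_2
  · exact br_hact_3
  · exact br_hact_4
  · exact br_hact_5
  · exact br_hact_6
  · exact br_hact_7
  · exact br_hact_8
  · exact br_hact_9
  · exact br_hact_10
  · exact br_hact_11
  · exact br_hact_12
  · exact br_hact_13
  · exact br_hact_14
  · exact br_hact_15

theorem brOK : BrFOK dD dBr dFix :=
  brFOK_of_chk br_hlet br_hact br_hfix (fun _ hi => allB_true br_htree_b hi) (fun _ hi => allB_true br_hsrt_b hi)

end Cfsg.Agent.Helper9.Co3O

end
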