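import Mathlib
import Cfsg.Agent.Helper9.Co3O.Data

set_option autoImplicit false
set_option Elab.async false

/-! Kernel checks of the certificates, a part. -/

noncomputable section

namespace Cfsg.Agent.Helper9.Co3O

open Cfsg.Agent.Helper9.OutG Cfsg.Agent.Helper9.J3

set_option maxRecDepth 1000000 in
theorem cls_hclo_0 : allC (cloChk dD dC dE dCl) 0 675 = true := by decide +kernel

set_option maxRecDepth 1000000 in
theorem cls_hclo_1 : allC (cloChk dD dC dE dCl) 1 675 = true := by decide +kernel

set_option maxRecDepth 1000000 in
theorem cls_hclo_2 : allC (cloChk dD dC dE dCl) 2 675 = true := by decide +kernel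

set_option maxRecDepth 1000000 in
theorem cls_hclo_3 : allC (cloChk dD dC dE dCl) 3 675 = true := by decide +kernel

set_option maxRecDepth 1000000 in
theorem cls_hclo_4 : allC (cloChk dD dC dE dCl) 4 675 = true := by decide +kernel

set_option maxRecDepth 1000000 in
theorem cls_hclo_5 : allC (cloChk dD dC dE dCl) 5 675 = true := by decide +kernel

set_option maxRecDepth 1000000 in
theorem cls_hclo_6 : allC (cloChk dD dC dE dCl) 6 675 = true := by decide +kernel

set_option maxRecDepth 1000000 in
theorem cls_hclo_7 : allC (cloChk dD dC dE dCl) 7 675 = true := by decide +kernel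

set_option maxRecDepth 1000000 in
theorem cls_hclo_8 : allC (cloChk dD dC dE dCl) 8 675 = true := by decide +kernel

set_option maxRecDepth 1000000 in
theorem cls_hclo_9 : allC (cloChk dD dC dE dCl) 9 675 = true := by decide +kernel

set_option maxRecDepth 1000000 in
theorem cls_hclo_10 : allC (cloChk dD dC dE dCl) 10 675 = true := by decide +kernel

set_option maxRecDepth 1000000 in
theorem cls_hclo_11 : allC (cloChk dD dC dE dCl) 11 675 = true := by decide +kernel

set_option maxRecDepth 1000000 in
theorem cls_hclo_12 : allC (cloChk dD dC dE dCl) 12 675 = true := by decide +kernel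

set_option maxRecDepth 1000000 in
theorem cls_hclo_13 : allC (cloChk dD dC dE dCl) 13 675 = true := by decide +kernel

set_option maxRecDepth 1000000 in
theorem cls_hclo_14 : allC (cloChk dD dC dE dCl) 14 675 = true := by decide +kernel

set_option maxRecDepth 1000000 in
theorem cls_hclo_15 : allC (cloChk dD dC dE dCl) 15 675 = true := by decide +kernel

set_option maxRecDepth 1000000 in
theorem cls_hclo_16 : allC (cloChk dD dC dE dCl) 16 675 = true := by decide +kernel

set_option maxRecDepth 1000000 in
theorem cls_hclo_17 : allC (cloChk dD dC dE dCl) 17 675 = true := by decide +kernel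

set_option maxRecDepth 1000000 in
theorem cls_hclo_18 : allC (cloChk dD dC dE dCl) 18 675 = true := by decide +kernel

set_option maxRecDepth 1000000 in
theorem cls_hclo_19 : allC (cloChk dD dC dE dCl) 19 675 = true := by decide +kernel

set_option maxRecDepth 1000000 in
theorem cls_hclo_20 : allC (cloChk dD dC dE dCl) 20 675 = true := by decide +kernel

set_option maxRecDepth 1000000 in
theorem cls_hclo_21 : allC (cloChk dD dC dE dCl) 21 675 = true := by decide +kernel

set_option maxRecDepth 1000000 in
theorem cls_hclo_22 : allC (cloChk dD dC dE dCl) 22 675 = true := by decide +kernel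

end Cfsg.Agent.Helper9.Co3O

end
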