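import Mathlib
import Cfsg.Agent.Helper9.Co3O.Data

set_option autoImplicit false
set_option Elab.async false

/-! Kernel checks of the certificates, a part. -/

noncomputable section

namespace Cfsg.Agent.Helper9.Co3O

open Cfsg.Agent.Helper9.OutG Cfsg.Agent.Helper9.J3

set_option maxRecDepth 1000000 in
theorem cls_hclo_23 : allC (cloChk dD dC dE dCl) 23 675 = true := by decide +kernel

set_option maxRecDepth 1000000 in
theorem cls_hclo_24 : allC (cloChk dD dC dE dCl) 24 675 = true := by decide +kernel

set_option maxRecDepth 1000000 in
theorem cls_hclo_25 : allC (cloChk dD dC dE dCl) 25 675 = true := by decide +kernel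

set_option maxRecDepth 1000000 in
theorem cls_hclo_26 : allC (cloChk dD dC dE dCl) 26 675 = true := by decide +kernel

set_option maxRecDepth 1000000 in
theorem cls_hclo_27 : allC (cloChk dD dC dE dCl) 27 675 = true := by decide +kernel

set_option maxRecDepth 1000000 in
theorem cls_hclo_28 : allC (cloChk dD dC dE dCl) 28 675 = true := by decide +kernel

set_option maxRecDepth 1000000 in
theorem cls_hclo_29 : allC (cloChk dD dC dE dCl) 29 675 = true := by decide +kernel

set_option maxRecDepth 1000000 in
theorem cls_hclo_30 : allC (cloChk dD dC dE dCl) 30 675 = true := by decide +kernel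

set_option maxRecDepth 1000000 in
theorem cls_hclo_31 : allC (cloChk dD dC dE dCl) 31 675 = true := by decide +kernel

set_option maxRecDepth 1000000 in
theorem cls_hclo_32 : allC (cloChk dD dC dE dCl) 32 675 = true := by decide +kernel

set_option maxRecDepth 1000000 in
theorem cls_hclo_33 : allC (cloChk dD dC dE dCl) 33 675 = true := by decide +kernel

set_option maxRecDepth 1000000 in
theorem cls_hclo_34 : allC (cloChk dD dC dE dCl) 34 675 = true := by decide +kernel

set_option maxRecDepth 1000000 in
theorem cls_hclo_35 : allC (cloChk dD dC dE dCl) 35 675 = true := by decide +kernel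

set_option maxRecDepth 1000000 in
theorem cls_hclo_36 : allC (cloChk dD dC dE dCl) 36 675 = true := by decide +kernel

set_option maxRecDepth 1000000 in
theorem cls_hclo_37 : allC (cloChk dD dC dE dCl) 37 675 = true := by decide +kernel

set_option maxRecDepth 1000000 in
theorem cls_hclo_38 : allC (cloChk dD dC dE dCl) 38 675 = true := by decide +kernel

set_option maxRecDepth 1000000 in
theorem cls_hclo_39 : allC (cloChk dD dC dE dCl) 39 675 = true := by decide +kernel

set_option maxRecDepth 1000000 in
theorem cls_hclo_40 : allC (cloChk dD dC dE dCl) 40 675 = true := by decide +kernel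

set_option maxRecDepth 1000000 in
theorem cls_hclo_41 : allC (cloChk dD dC dE dCl) 41 675 = true := by decide +kernel

set_option maxRecDepth 1000000 in
theorem cls_hclo_42 : allC (cloChk dD dC dE dCl) 42 675 = true := by decide +kernel

set_option maxRecDepth 1000000 in
theorem cls_hclo_43 : allC (cloChk dD dC dE dCl) 43 675 = true := by decide +kernel

set_option maxRecDepth 1000000 in
theorem cls_hclo_44 : allC (cloChk dD dC dE dCl) 44 675 = true := by decide +kernel

set_option maxRecDepth 1000000 in
theorem cls_hclo_45 : allC (cloChk dD dC dE dCl) 45 675 = true := by decide +kernel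

end Cfsg.Agent.Helper9.Co3O

end
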