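import Mathlib
import Cfsg.Agent.Helper9.Co3O.Data

set_option autoImplicit false
set_option Elab.async false

/-! Kernel checks of the certificates, a part. -/

noncomputable section

namespace Cfsg.Agent.Helper9.Co3O

open Cfsg.Agent.Helper9.OutG Cfsg.Agent.Helper9.J3

set_option maxRecDepth 1000000 in
theorem cls_hclo_230 : allC (cloChk dD dC dE dCl) 230 675 = true := by decide +kernel

set_option maxRecDepth 1000000 in
theorem cls_hclo_231 : allC (cloChk dD dC dE dCl) 231 675 = true := by decide +kernel

set_option maxRecDepth 1000000 in
theorem cls_hclo_232 : allC (cloChk dD dC dE dCl) 232 675 = true := by decide +kernel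

set_option maxRecDepth 1000000 in
theorem cls_hclo_233 : allC (cloChk dD dC dE dCl) 233 675 = true := by decide +kernel

set_option maxRecDepth 1000000 in
theorem cls_hclo_234 : allC (cloChk dD dC dE dCl) 234 675 = true := by decide +kernel

set_option maxRecDepth 1000000 in
theorem cls_hclo_235 : allC (cloChk dD dC dE dCl) 235 675 = true := by decide +kernel

set_option maxRecDepth 1000000 in
theorem cls_hclo_236 : allC (cloChk dD dC dE dCl) 236 675 = true := by decide +kernel

set_option maxRecDepth 1000000 in
theorem cls_hclo_237 : allC (cloChk dD dC dE dCl) 237 675 = true := by decide +kernel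

set_option maxRecDepth 1000000 in
theorem cls_hclo_238 : allC (cloChk dD dC dE dCl) 238 675 = true := by decide +kernel

set_option maxRecDepth 1000000 in
theorem cls_hclo_239 : allC (cloChk dD dC dE dCl) 239 675 = true := by decide +kernel

set_option maxRecDepth 1000000 in
theorem cls_hclo_240 : allC (cloChk dD dC dE dCl) 240 675 = true := by decide +kernel

set_option maxRecDepth 1000000 in
theorem cls_hclo_241 : allC (cloChk dD dC dE dCl) 241 675 = true := by decide +kernel

set_option maxRecDepth 1000000 in
theorem cls_hclo_242 : allC (cloChk dD dC dE dCl) 242 675 = true := by decide +kernel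

set_option maxRecDepth 1000000 in
theorem cls_hclo_243 : allC (cloChk dD dC dE dCl) 243 675 = true := by decide +kernel

set_option maxRecDepth 1000000 in
theorem cls_hclo_244 : allC (cloChk dD dC dE dCl) 244 675 = true := by decide +kernel

set_option maxRecDepth 1000000 in
theorem cls_hclo_245 : allC (cloChk dD dC dE dCl) 245 675 = true := by decide +kernel

set_option maxRecDepth 1000000 in
theorem cls_hclo_246 : allC (cloChk dD dC dE dCl) 246 675 = true := by decide +kernel

set_option maxRecDepth 1000000 in
theorem cls_hclo_247 : allC (cloChk dD dC dE dCl) 247 675 = true := by decide +kernel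

set_option maxRecDepth 1000000 in
theorem cls_hclo_248 : allC (cloChk dD dC dE dCl) 248 675 = true := by decide +kernel

set_option maxRecDepth 1000000 in
theorem cls_hclo_249 : allC (cloChk dD dC dE dCl) 249 675 = true := by decide +kernel

set_option maxRecDepth 1000000 in
theorem cls_hclo_250 : allC (cloChk dD dC dE dCl) 250 675 = true := by decide +kernel

set_option maxRecDepth 1000000 in
theorem cls_hclo_251 : allC (cloChk dD dC dE dCl) 251 675 = true := by decide +kernel

set_option maxRecDepth 1000000 in
theorem cls_hclo_252 : allC (cloChk dD dC dE dCl) 252 675 = true := by decide +kernel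

end Cfsg.Agent.Helper9.Co3O

end
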