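import Mathlib
import Cfsg.Agent.Helper9.Co3O.Data

set_option autoImplicit false
set_option Elab.async false

/-! Kernel checks of the certificates, a part. -/

noncomputable section

namespace Cfsg.Agent.Helper9.Co3O

open Cfsg.Agent.Helper9.OutG Cfsg.Agent.Helper9.J3

set_option maxRecDepth 1000000 in
theorem cls_hclo_69 : allC (cloChk dD dC dE dCl) 69 675 = true := by decide +kernel

set_option maxRecDepth 1000000 in
theorem cls_hclo_70 : allC (cloChk dD dC dE dCl) 70 675 = true := by decide +kernel

set_option maxRecDepth 1000000 in
theorem cls_hclo_71 : allC (cloChk dD dC dE dCl) 71 675 = true := by decide +kernel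

set_option maxRecDepth 1000000 in
theorem cls_hclo_72 : allC (cloChk dD dC dE dCl) 72 675 = true := by decide +kernel

set_option maxRecDepth 1000000 in
theorem cls_hclo_73 : allC (cloChk dD dC dE dCl) 73 675 = true := by decide +kernel

set_option maxRecDepth 1000000 in
theorem cls_hclo_74 : allC (cloChk dD dC dE dCl) 74 675 = true := by decide +kernel

set_option maxRecDepth 1000000 in
theorem cls_hclo_75 : allC (cloChk dD dC dE dCl) 75 675 = true := by decide +kernel

set_option maxRecDepth 1000000 in
theorem cls_hclo_76 : allC (cloChk dD dC dE dCl) 76 675 = true := by decide +kernel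

set_option maxRecDepth 1000000 in
theorem cls_hclo_77 : allC (cloChk dD dC dE dCl) 77 675 = true := by decide +kernel

set_option maxRecDepth 1000000 in
theorem cls_hclo_78 : allC (cloChk dD dC dE dCl) 78 675 = true := by decide +kernel

set_option maxRecDepth 1000000 in
theorem cls_hclo_79 : allC (cloChk dD dC dE dCl) 79 675 = true := by decide +kernel

set_option maxRecDepth 1000000 in
theorem cls_hclo_80 : allC (cloChk dD dC dE dCl) 80 675 = true := by decide +kernel

set_option maxRecDepth 1000000 in
theorem cls_hclo_81 : allC (cloChk dD dC dE dCl) 81 675 = true := by decide +kernel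

set_option maxRecDepth 1000000 in
theorem cls_hclo_82 : allC (cloChk dD dC dE dCl) 82 675 = true := by decide +kernel

set_option maxRecDepth 1000000 in
theorem cls_hclo_83 : allC (cloChk dD dC dE dCl) 83 675 = true := by decide +kernel

set_option maxRecDepth 1000000 in
theorem cls_hclo_84 : allC (cloChk dD dC dE dCl) 84 675 = true := by decide +kernel

set_option maxRecDepth 1000000 in
theorem cls_hclo_85 : allC (cloChk dD dC dE dCl) 85 675 = true := by decide +kernel

set_option maxRecDepth 1000000 in
theorem cls_hclo_86 : allC (cloChk dD dC dE dCl) 86 675 = true := by decide +kernel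

set_option maxRecDepth 1000000 in
theorem cls_hclo_87 : allC (cloChk dD dC dE dCl) 87 675 = true := by decide +kernel

set_option maxRecDepth 1000000 in
theorem cls_hclo_88 : allC (cloChk dD dC dE dCl) 88 675 = true := by decide +kernel

set_option maxRecDepth 1000000 in
theorem cls_hclo_89 : allC (cloChk dD dC dE dCl) 89 675 = true := by decide +kernel

set_option maxRecDepth 1000000 in
theorem cls_hclo_90 : allC (cloChk dD dC dE dCl) 90 675 = true := by decide +kernel

set_option maxRecDepth 1000000 in
theorem cls_hclo_91 : allC (cloChk dD dC dE dCl) 91 675 = true := by decide +kernel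

end Cfsg.Agent.Helper9.Co3O

end
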