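import Mathlib
import Cfsg.Agent.Helper9.Co3O.Data

set_option autoImplicit false
set_option Elab.async false

/-! Kernel checks of the certificates, a part. -/

noncomputable section

namespace Cfsg.Agent.Helper9.Co3O

open Cfsg.Agent.Helper9.OutG Cfsg.Agent.Helper9.J3

set_option maxRecDepth 1000000 in
theorem cls_hclo_92 : allC (cloChk dD dC dE dCl) 92 675 = true := by decide +kernel

set_option maxRecDepth 1000000 in
theorem cls_hclo_93 : allC (cloChk dD dC dE dCl) 93 675 = true := by decide +kernel

set_option maxRecDepth 1000000 in
theorem cls_hclo_94 : allC (cloChk dD dC dE dCl) 94 675 = true := by decide +kernel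

set_option maxRecDepth 1000000 in
theorem cls_hclo_95 : allC (cloChk dD dC dE dCl) 95 675 = true := by decide +kernel

set_option maxRecDepth 1000000 in
theorem cls_hclo_96 : allC (cloChk dD dC dE dCl) 96 675 = true := by decide +kernel

set_option maxRecDepth 1000000 in
theorem cls_hclo_97 : allC (cloChk dD dC dE dCl) 97 675 = true := by decide +kernel

set_option maxRecDepth 1000000 in
theorem cls_hclo_98 : allC (cloChk dD dC dE dCl) 98 675 = true := by decide +kernel

set_option maxRecDepth 1000000 in
theorem cls_hclo_99 : allC (cloChk dD dC dE dCl) 99 675 = true := by decide +kernel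

set_option maxRecDepth 1000000 in
theorem cls_hclo_100 : allC (cloChk dD dC dE dCl) 100 675 = true := by decide +kernel

set_option maxRecDepth 1000000 in
theorem cls_hclo_101 : allC (cloChk dD dC dE dCl) 101 675 = true := by decide +kernel

set_option maxRecDepth 1000000 in
theorem cls_hclo_102 : allC (cloChk dD dC dE dCl) 102 675 = true := by decide +kernel

set_option maxRecDepth 1000000 in
theorem cls_hclo_103 : allC (cloChk dD dC dE dCl) 103 675 = true := by decide +kernel

set_option maxRecDepth 1000000 in
theorem cls_hclo_104 : allC (cloChk dD dC dE dCl) 104 675 = true := by decide +kernel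

set_option maxRecDepth 1000000 in
theorem cls_hclo_105 : allC (cloChk dD dC dE dCl) 105 675 = true := by decide +kernel

set_option maxRecDepth 1000000 in
theorem cls_hclo_106 : allC (cloChk dD dC dE dCl) 106 675 = true := by decide +kernel

set_option maxRecDepth 1000000 in
theorem cls_hclo_107 : allC (cloChk dD dC dE dCl) 107 675 = true := by decide +kernel

set_option maxRecDepth 1000000 in
theorem cls_hclo_108 : allC (cloChk dD dC dE dCl) 108 675 = true := by decide +kernel

set_option maxRecDepth 1000000 in
theorem cls_hclo_109 : allC (cloChk dD dC dE dCl) 109 675 = true := by decide +kernel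

set_option maxRecDepth 1000000 in
theorem cls_hclo_110 : allC (cloChk dD dC dE dCl) 110 675 = true := by decide +kernel

set_option maxRecDepth 1000000 in
theorem cls_hclo_111 : allC (cloChk dD dC dE dCl) 111 675 = true := by decide +kernel

set_option maxRecDepth 1000000 in
theorem cls_hclo_112 : allC (cloChk dD dC dE dCl) 112 675 = true := by decide +kernel

set_option maxRecDepth 1000000 in
theorem cls_hclo_113 : allC (cloChk dD dC dE dCl) 113 675 = true := by decide +kernel

set_option maxRecDepth 1000000 in
theorem cls_hclo_114 : allC (cloChk dD dC dE dCl) 114 675 = true := by decide +kernel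

end Cfsg.Agent.Helper9.Co3O

end
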