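import Mathlib
import Cfsg.Agent.Helper9.Co3O.Data

set_option autoImplicit false
set_option Elab.async false

/-! Kernel checks of the certificates, a part. -/

noncomputable section

namespace Cfsg.Agent.Helper9.Co3O

open Cfsg.Agent.Helper9.OutG Cfsg.Agent.Helper9.J3

set_option maxRecDepth 1000000 in
theorem cls_hclo_115 : allC (cloChk dD dC dE dCl) 115 675 = true := by decide +kernel

set_option maxRecDepth 1000000 in
theorem cls_hclo_116 : allC (cloChk dD dC dE dCl) 116 675 = true := by decide +kernel

set_option maxRecDepth 1000000 in
theorem cls_hclo_117 : allC (cloChk dD dC dE dCl) 117 675 = true := by decide +kernel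

set_option maxRecDepth 1000000 in
theorem cls_hclo_118 : allC (cloChk dD dC dE dCl) 118 675 = true := by decide +kernel

set_option maxRecDepth 1000000 in
theorem cls_hclo_119 : allC (cloChk dD dC dE dCl) 119 675 = true := by decide +kernel

set_option maxRecDepth 1000000 in
theorem cls_hclo_120 : allC (cloChk dD dC dE dCl) 120 675 = true := by decide +kernel

set_option maxRecDepth 1000000 in
theorem cls_hclo_121 : allC (cloChk dD dC dE dCl) 121 675 = true := by decide +kernel

set_option maxRecDepth 1000000 in
theorem cls_hclo_122 : allC (cloChk dD dC dE dCl) 122 675 = true := by decide +kernel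

set_option maxRecDepth 1000000 in
theorem cls_hclo_123 : allC (cloChk dD dC dE dCl) 123 675 = true := by decide +kernel

set_option maxRecDepth 1000000 in
theorem cls_hclo_124 : allC (cloChk dD dC dE dCl) 124 675 = true := by decide +kernel

set_option maxRecDepth 1000000 in
theorem cls_hclo_125 : allC (cloChk dD dC dE dCl) 125 675 = true := by decide +kernel

set_option maxRecDepth 1000000 in
theorem cls_hclo_126 : allC (cloChk dD dC dE dCl) 126 675 = true := by decide +kernel

set_option maxRecDepth 1000000 in
theorem cls_hclo_127 : allC (cloChk dD dC dE dCl) 127 675 = true := by decide +kernel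

set_option maxRecDepth 1000000 in
theorem cls_hclo_128 : allC (cloChk dD dC dE dCl) 128 675 = true := by decide +kernel

set_option maxRecDepth 1000000 in
theorem cls_hclo_129 : allC (cloChk dD dC dE dCl) 129 675 = true := by decide +kernel

set_option maxRecDepth 1000000 in
theorem cls_hclo_130 : allC (cloChk dD dC dE dCl) 130 675 = true := by decide +kernel

set_option maxRecDepth 1000000 in
theorem cls_hclo_131 : allC (cloChk dD dC dE dCl) 131 675 = true := by decide +kernel

set_option maxRecDepth 1000000 in
theorem cls_hclo_132 : allC (cloChk dD dC dE dCl) 132 675 = true := by decide +kernel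

set_option maxRecDepth 1000000 in
theorem cls_hclo_133 : allC (cloChk dD dC dE dCl) 133 675 = true := by decide +kernel

set_option maxRecDepth 1000000 in
theorem cls_hclo_134 : allC (cloChk dD dC dE dCl) 134 675 = true := by decide +kernel

set_option maxRecDepth 1000000 in
theorem cls_hclo_135 : allC (cloChk dD dC dE dCl) 135 675 = true := by decide +kernel

set_option maxRecDepth 1000000 in
theorem cls_hclo_136 : allC (cloChk dD dC dE dCl) 136 675 = true := by decide +kernel

set_option maxRecDepth 1000000 in
theorem cls_hclo_137 : allC (cloChk dD dC dE dCl) 137 675 = true := by decide +kernel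

end Cfsg.Agent.Helper9.Co3O

end
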