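import Mathlib
import Cfsg.Agent.Helper9.Co3O.Data

set_option autoImplicit false
set_option Elab.async false

/-! Kernel checks of the certificates, a part. -/

noncomputable section

namespace Cfsg.Agent.Helper9.Co3O

open Cfsg.Agent.Helper9.OutG Cfsg.Agent.Helper9.J3

set_option maxRecDepth 1000000 in
theorem cls_hclo_138 : allC (cloChk dD dC dE dCl) 138 675 = true := by decide +kernel

set_option maxRecDepth 1000000 in
theorem cls_hclo_139 : allC (cloChk dD dC dE dCl) 139 675 = true := by decide +kernel

set_option maxRecDepth 1000000 in
theorem cls_hclo_140 : allC (cloChk dD dC dE dCl) 140 675 = true := by decide +kernel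

set_option maxRecDepth 1000000 in
theorem cls_hclo_141 : allC (cloChk dD dC dE dCl) 141 675 = true := by decide +kernel

set_option maxRecDepth 1000000 in
theorem cls_hclo_142 : allC (cloChk dD dC dE dCl) 142 675 = true := by decide +kernel

set_option maxRecDepth 1000000 in
theorem cls_hclo_143 : allC (cloChk dD dC dE dCl) 143 675 = true := by decide +kernel

set_option maxRecDepth 1000000 in
theorem cls_hclo_144 : allC (cloChk dD dC dE dCl) 144 675 = true := by decide +kernel

set_option maxRecDepth 1000000 in
theorem cls_hclo_145 : allC (cloChk dD dC dE dCl) 145 675 = true := by decide +kernel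

set_option maxRecDepth 1000000 in
theorem cls_hclo_146 : allC (cloChk dD dC dE dCl) 146 675 = true := by decide +kernel

set_option maxRecDepth 1000000 in
theorem cls_hclo_147 : allC (cloChk dD dC dE dCl) 147 675 = true := by decide +kernel

set_option maxRecDepth 1000000 in
theorem cls_hclo_148 : allC (cloChk dD dC dE dCl) 148 675 = true := by decide +kernel

set_option maxRecDepth 1000000 in
theorem cls_hclo_149 : allC (cloChk dD dC dE dCl) 149 675 = true := by decide +kernel

set_option maxRecDepth 1000000 in
theorem cls_hclo_150 : allC (cloChk dD dC dE dCl) 150 675 = true := by decide +kernel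

set_option maxRecDepth 1000000 in
theorem cls_hclo_151 : allC (cloChk dD dC dE dCl) 151 675 = true := by decide +kernel

set_option maxRecDepth 1000000 in
theorem cls_hclo_152 : allC (cloChk dD dC dE dCl) 152 675 = true := by decide +kernel

set_option maxRecDepth 1000000 in
theorem cls_hclo_153 : allC (cloChk dD dC dE dCl) 153 675 = true := by decide +kernel

set_option maxRecDepth 1000000 in
theorem cls_hclo_154 : allC (cloChk dD dC dE dCl) 154 675 = true := by decide +kernel

set_option maxRecDepth 1000000 in
theorem cls_hclo_155 : allC (cloChk dD dC dE dCl) 155 675 = true := by decide +kernel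

set_option maxRecDepth 1000000 in
theorem cls_hclo_156 : allC (cloChk dD dC dE dCl) 156 675 = true := by decide +kernel

set_option maxRecDepth 1000000 in
theorem cls_hclo_157 : allC (cloChk dD dC dE dCl) 157 675 = true := by decide +kernel

set_option maxRecDepth 1000000 in
theorem cls_hclo_158 : allC (cloChk dD dC dE dCl) 158 675 = true := by decide +kernel

set_option maxRecDepth 1000000 in
theorem cls_hclo_159 : allC (cloChk dD dC dE dCl) 159 675 = true := by decide +kernel

set_option maxRecDepth 1000000 in
theorem cls_hclo_160 : allC (cloChk dD dC dE dCl) 160 675 = true := by decide +kernel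

end Cfsg.Agent.Helper9.Co3O

end
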