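import Mathlib
import Cfsg.Agent.Helper9.Co3O.Data

set_option autoImplicit false
set_option Elab.async false

/-! Kernel checks of the certificates, a part. -/

noncomputable section

namespace Cfsg.Agent.Helper9.Co3O

open Cfsg.Agent.Helper9.OutG Cfsg.Agent.Helper9.J3

set_option maxRecDepth 1000000 in
theorem cls_hclo_161 : allC (cloChk dD dC dE dCl) 161 675 = true := by decide +kernel

set_option maxRecDepth 1000000 in
theorem cls_hclo_162 : allC (cloChk dD dC dE dCl) 162 675 = true := by decide +kernel

set_option maxRecDepth 1000000 in
theorem cls_hclo_163 : allC (cloChk dD dC dE dCl) 163 675 = true := by decide +kernel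

set_option maxRecDepth 1000000 in
theorem cls_hclo_164 : allC (cloChk dD dC dE dCl) 164 675 = true := by decide +kernel

set_option maxRecDepth 1000000 in
theorem cls_hclo_165 : allC (cloChk dD dC dE dCl) 165 675 = true := by decide +kernel

set_option maxRecDepth 1000000 in
theorem cls_hclo_166 : allC (cloChk dD dC dE dCl) 166 675 = true := by decide +kernel

set_option maxRecDepth 1000000 in
theorem cls_hclo_167 : allC (cloChk dD dC dE dCl) 167 675 = true := by decide +kernel

set_option maxRecDepth 1000000 in
theorem cls_hclo_168 : allC (cloChk dD dC dE dCl) 168 675 = true := by decide +kernel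

set_option maxRecDepth 1000000 in
theorem cls_hclo_169 : allC (cloChk dD dC dE dCl) 169 675 = true := by decide +kernel

set_option maxRecDepth 1000000 in
theorem cls_hclo_170 : allC (cloChk dD dC dE dCl) 170 675 = true := by decide +kernel

set_option maxRecDepth 1000000 in
theorem cls_hclo_171 : allC (cloChk dD dC dE dCl) 171 675 = true := by decide +kernel

set_option maxRecDepth 1000000 in
theorem cls_hclo_172 : allC (cloChk dD dC dE dCl) 172 675 = true := by decide +kernel

set_option maxRecDepth 1000000 in
theorem cls_hclo_173 : allC (cloChk dD dC dE dCl) 173 675 = true := by decide +kernel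

set_option maxRecDepth 1000000 in
theorem cls_hclo_174 : allC (cloChk dD dC dE dCl) 174 675 = true := by decide +kernel

set_option maxRecDepth 1000000 in
theorem cls_hclo_175 : allC (cloChk dD dC dE dCl) 175 675 = true := by decide +kernel

set_option maxRecDepth 1000000 in
theorem cls_hclo_176 : allC (cloChk dD dC dE dCl) 176 675 = true := by decide +kernel

set_option maxRecDepth 1000000 in
theorem cls_hclo_177 : allC (cloChk dD dC dE dCl) 177 675 = true := by decide +kernel

set_option maxRecDepth 1000000 in
theorem cls_hclo_178 : allC (cloChk dD dC dE dCl) 178 675 = true := by decide +kernel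

set_option maxRecDepth 1000000 in
theorem cls_hclo_179 : allC (cloChk dD dC dE dCl) 179 675 = true := by decide +kernel

set_option maxRecDepth 1000000 in
theorem cls_hclo_180 : allC (cloChk dD dC dE dCl) 180 675 = true := by decide +kernel

set_option maxRecDepth 1000000 in
theorem cls_hclo_181 : allC (cloChk dD dC dE dCl) 181 675 = true := by decide +kernel

set_option maxRecDepth 1000000 in
theorem cls_hclo_182 : allC (cloChk dD dC dE dCl) 182 675 = true := by decide +kernel

set_option maxRecDepth 1000000 in
theorem cls_hclo_183 : allC (cloChk dD dC dE dCl) 183 675 = true := by decide +kernel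

end Cfsg.Agent.Helper9.Co3O

end
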