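import Mathlib
import Cfsg.Agent.Helper9.Co3O.Data

set_option autoImplicit false
set_option Elab.async false

/-! Kernel checks of the certificates, a part. -/

noncomputable section

namespace Cfsg.Agent.Helper9.Co3O

open Cfsg.Agent.Helper9.OutG Cfsg.Agent.Helper9.J3

set_option maxRecDepth 1000000 in
theorem cls_hclo_184 : allC (cloChk dD dC dE dCl) 184 675 = true := by decide +kernel

set_option maxRecDepth 1000000 in
theorem cls_hclo_185 : allC (cloChk dD dC dE dCl) 185 675 = true := by decide +kernel

set_option maxRecDepth 1000000 in
theorem cls_hclo_186 : allC (cloChk dD dC dE dCl) 186 675 = true := by decide +kernel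

set_option maxRecDepth 1000000 in
theorem cls_hclo_187 : allC (cloChk dD dC dE dCl) 187 675 = true := by decide +kernel

set_option maxRecDepth 1000000 in
theorem cls_hclo_188 : allC (cloChk dD dC dE dCl) 188 675 = true := by decide +kernel

set_option maxRecDepth 1000000 in
theorem cls_hclo_189 : allC (cloChk dD dC dE dCl) 189 675 = true := by decide +kernel

set_option maxRecDepth 1000000 in
theorem cls_hclo_190 : allC (cloChk dD dC dE dCl) 190 675 = true := by decide +kernel

set_option maxRecDepth 1000000 in
theorem cls_hclo_191 : allC (cloChk dD dC dE dCl) 191 675 = true := by decide +kernel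

set_option maxRecDepth 1000000 in
theorem cls_hclo_192 : allC (cloChk dD dC dE dCl) 192 675 = true := by decide +kernel

set_option maxRecDepth 1000000 in
theorem cls_hclo_193 : allC (cloChk dD dC dE dCl) 193 675 = true := by decide +kernel

set_option maxRecDepth 1000000 in
theorem cls_hclo_194 : allC (cloChk dD dC dE dCl) 194 675 = true := by decide +kernel

set_option maxRecDepth 1000000 in
theorem cls_hclo_195 : allC (cloChk dD dC dE dCl) 195 675 = true := by decide +kernel

set_option maxRecDepth 1000000 in
theorem cls_hclo_196 : allC (cloChk dD dC dE dCl) 196 675 = true := by decide +kernel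

set_option maxRecDepth 1000000 in
theorem cls_hclo_197 : allC (cloChk dD dC dE dCl) 197 675 = true := by decide +kernel

set_option maxRecDepth 1000000 in
theorem cls_hclo_198 : allC (cloChk dD dC dE dCl) 198 675 = true := by decide +kernel

set_option maxRecDepth 1000000 in
theorem cls_hclo_199 : allC (cloChk dD dC dE dCl) 199 675 = true := by decide +kernel

set_option maxRecDepth 1000000 in
theorem cls_hclo_200 : allC (cloChk dD dC dE dCl) 200 675 = true := by decide +kernel

set_option maxRecDepth 1000000 in
theorem cls_hclo_201 : allC (cloChk dD dC dE dCl) 201 675 = true := by decide +kernel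

set_option maxRecDepth 1000000 in
theorem cls_hclo_202 : allC (cloChk dD dC dE dCl) 202 675 = true := by decide +kernel

set_option maxRecDepth 1000000 in
theorem cls_hclo_203 : allC (cloChk dD dC dE dCl) 203 675 = true := by decide +kernel

set_option maxRecDepth 1000000 in
theorem cls_hclo_204 : allC (cloChk dD dC dE dCl) 204 675 = true := by decide +kernel

set_option maxRecDepth 1000000 in
theorem cls_hclo_205 : allC (cloChk dD dC dE dCl) 205 675 = true := by decide +kernel

set_option maxRecDepth 1000000 in
theorem cls_hclo_206 : allC (cloChk dD dC dE dCl) 206 675 = true := by decide +kernel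

end Cfsg.Agent.Helper9.Co3O

end
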