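import Mathlib
import Cfsg.Agent.Helper9.Co3O.Data

set_option autoImplicit false
set_option Elab.async false

/-! Kernel checks of the certificates, a part. -/

noncomputable section

namespace Cfsg.Agent.Helper9.Co3O

open Cfsg.Agent.Helper9.OutG Cfsg.Agent.Helper9.J3

set_option maxRecDepth 1000000 in
theorem tst_htst_0 : allC (testChk dD dC dE dCl dTs) 0 495 = true := by decide +kernel

set_option maxRecDepth 1000000 in
theorem tst_htst_1 : allC (testChk dD dC dE dCl dTs) 1 495 = true := by decide +kernel

set_option maxRecDepth 1000000 in
theorem tst_htst_2 : allC (testChk dD dC dE dCl dTs) 2 495 = true := by decide +kernel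

set_option maxRecDepth 1000000 in
theorem tst_htst_3 : allC (testChk dD dC dE dCl dTs) 3 495 = true := by decide +kernel

set_option maxRecDepth 1000000 in
theorem tst_htst_4 : allC (testChk dD dC dE dCl dTs) 4 495 = true := by decide +kernel

set_option maxRecDepth 1000000 in
theorem tst_htst_5 : allC (testChk dD dC dE dCl dTs) 5 495 = true := by decide +kernel

set_option maxRecDepth 1000000 in
theorem tst_htst_6 : allC (testChk dD dC dE dCl dTs) 6 495 = true := by decide +kernel

set_option maxRecDepth 1000000 in
theorem tst_htst_7 : allC (testChk dD dC dE dCl dTs) 7 495 = true := by decide +kernel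

set_option maxRecDepth 1000000 in
theorem tst_htst_8 : allC (testChk dD dC dE dCl dTs) 8 495 = true := by decide +kernel

set_option maxRecDepth 1000000 in
theorem tst_htst_9 : allC (testChk dD dC dE dCl dTs) 9 495 = true := by decide +kernel

set_option maxRecDepth 1000000 in
theorem tst_htst_10 : allC (testChk dD dC dE dCl dTs) 10 495 = true := by decide +kernel

set_option maxRecDepth 1000000 in
theorem tst_htst_11 : allC (testChk dD dC dE dCl dTs) 11 495 = true := by decide +kernel

set_option maxRecDepth 1000000 in
theorem tst_htst_12 : allC (testChk dD dC dE dCl dTs) 12 495 = true := by decide +kernel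

set_option maxRecDepth 1000000 in
theorem tst_htst_13 : allC (testChk dD dC dE dCl dTs) 13 495 = true := by decide +kernel

set_option maxRecDepth 1000000 in
theorem tst_htst_14 : allC (testChk dD dC dE dCl dTs) 14 495 = true := by decide +kernel

set_option maxRecDepth 1000000 in
theorem tst_htst_15 : allC (testChk dD dC dE dCl dTs) 15 495 = true := by decide +kernel

set_option maxRecDepth 1000000 in
theorem tst_htst_16 : allC (testChk dD dC dE dCl dTs) 16 495 = true := by decide +kernel

set_option maxRecDepth 1000000 in
theorem tst_htst_17 : allC (testChk dD dC dE dCl dTs) 17 495 = true := by decide +kernel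

set_option maxRecDepth 1000000 in
theorem tst_htst_18 : allC (testChk dD dC dE dCl dTs) 18 495 = true := by decide +kernel

set_option maxRecDepth 1000000 in
theorem tst_htst_19 : allC (testChk dD dC dE dCl dTs) 19 495 = true := by decide +kernel

set_option maxRecDepth 1000000 in
theorem tst_htst_20 : allC (testChk dD dC dE dCl dTs) 20 495 = true := by decide +kernel

set_option maxRecDepth 1000000 in
theorem tst_htst_21 : allC (testChk dD dC dE dCl dTs) 21 495 = true := by decide +kernel

set_option maxRecDepth 1000000 in
theorem tst_htst_22 : allC (testChk dD dC dE dCl dTs) 22 495 = true := by decide +kernel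

end Cfsg.Agent.Helper9.Co3O

end
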