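import Mathlib
import Cfsg.Agent.Helper9.Co3O.Data
import Cfsg.Agent.Helper9.Co3O.ChkC0
import Cfsg.Agent.Helper9.Co3O.ChkC1
import Cfsg.Agent.Helper9.Co3O.ChkC2
import Cfsg.Agent.Helper9.Co3O.ChkC3
import Cfsg.Agent.Helper9.Co3O.ChkC4
import Cfsg.Agent.Helper9.Co3O.ChkC5
import Cfsg.Agent.Helper9.Co3O.ChkC6
import Cfsg.Agent.Helper9.Co3O.ChkC7
import Cfsg.Agent.Helper9.Co3O.ChkC8
import Cfsg.Agent.Helper9.Co3O.ChkC9
import Cfsg.Agent.Helper9.Co3O.ChkC10
import Cfsg.Agent.Helper9.Co3O.ChkT0
import Cfsg.Agent.Helper9.Co3O.ChkT1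
set_option autoImplicit false
set_option Elab.async false

/-! Kernel checks of the certificates. -/

noncomputable section

namespace Cfsg.Agent.Helper9.Co3O

open Cfsg.Agent.Helper9.OutG Cfsg.Agent.Helper9.J3

set_option maxRecDepth 1000000 in
theorem tab_b : allB (tabChk dD) dD.K = true := by decide +kernel

set_option maxRecDepth 1000000 in
theorem dw_b : allB (dwChk dD) dD.K = true := by decide +kernel

set_option maxRecDepth 1000000 in
theorem chain_b : chainChk dD dC.bs [] dC.wss = true := by decide +kernel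

set_option maxRecDepth 1000000 in
theorem plen_b : prodLen dC.wss = 495766656000 := by decide +kernel

/-- the verified core. -/
theorem core : Core dD dC 495766656000 :=
  ⟨fun _ hk => allB_true tab_b hk, fun _ hk => allB_true dw_b hk, chain_b, plen_b⟩

set_option maxRecDepth 1000000 in
theorem gen_hab : allB (fun k => orB (ltB k dE.M) (abW dD dE k (dwOf dD k))) dD.K = true := by decide +kernel

set_option maxRecDepth 1000000 in
theorem gen_hlw : allB (fun l => andB (abW dD dE dD.K (nthW dE.lw l)) (allB (fun x => Nat.beq (T dD l x) (evalT dD (nthW dE.lw l) x)) dD.n)) dD.L = true := by decide +kernel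

set_option maxRecDepth 1000000 in
theorem gen_hpw : allB (fun i => allB (fun x => Nat.beq (T dD dE.iA (pwT dD dE i x)) (pwT dD dE (Nat.mod (Nat.succ i) dE.p) x)) dD.n) dE.p = true := by decide +kernel

set_option maxRecDepth 1000000 in
theorem gen_hp0 : allB (fun x => Nat.beq (pwT dD dE 0 x) x) dD.n = true := by decide +kernel

set_option maxRecDepth 1000000 in
theorem gen_hmv : andB (ltB dE.mv dD.n) (notB (Nat.beq (T dD dE.iA dE.mv) dE.mv)) = true := by decide +kernel

set_option maxRecDepth 1000000 in
theorem gen_hnm : allB (fun x => Nat.beq (T dD dE.iN (T dD dE.iA x)) (pwT dD dE (Nat.mod dE.r dE.p) (T dD dE.iN x))) dD.n = true := by decide +kernel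

theorem genOK : GenOK dD dE :=
  { hLM := by decide, hab := gen_hab, hlw := gen_hlw, hpw := gen_hpw, hp0 := gen_hp0, hmv := gen_hmv, hnm := gen_hnm }

set_option maxRecDepth 1000000 in
theorem syl_hrel : allB (sylRelChk dD dC dS) dS.k = true := by decide +kernel

set_option maxRecDepth 1000000 in
theorem syl_hch : chainChk dD dS.sC.bs [] dS.sC.wss = true := by decide +kernel

set_option maxRecDepth 1000000 in
theorem syl_hpl : prodLen dS.sC.wss = 2 ^ dS.k := by decide +kernel

set_option maxRecDepth 1000000 in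
theorem syl_hlt : memWss dS.tI dS.sC.wss = true := by decide +kernel

set_option maxRecDepth 1000000 in
theorem syl_hcm : allB (fun j => agreeL dC.bs (fun x => tF dD dS 0 (tF dD dS j x)) (fun x => tF dD dS j (tF dD dS 0 x))) dS.k = true := by decide +kernel

set_option maxRecDepth 1000000 in
theorem syl_hmv : notB (allB (fun x => Nat.beq (tF dD dS 0 x) x) dD.n) = true := by decide +kernel

set_option maxRecDepth 1000000 in
theorem syl_wit : allB (witChk dD dS) 1024 = true := by decide +kernel

theorem syl_hwit : ∀ e, e < 2 ^ dS.k → witChk dD dS e = true := by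
  intro e he
  have h2 : (2 : ℕ) ^ dS.k = 1024 := by decide
  rw [h2] at he
  exact allB_true syl_wit he

theorem sylOK : SylOK dD dC 495766656000 dS :=
  { hrel := syl_hrel, hodd := by decide, hch := syl_hch, hpl := syl_hpl, hlt := syl_hlt, hcm := syl_hcm,
    hmv := syl_hmv, hk := by decide, hwit := syl_hwit }

theorem cls_hclo : ∀ v, v < dCl.R * dE.p → cloChk dD dC dE dCl v = true := by
  intro v hv
  have h2 : dCl.R * dE.p = 170775 := by decide
  rw [h2] at hv
  have hv' : v < 253 * 675 := by omega
  refine allC_true (K := 253) (c := 675) ?_ hv'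
  intro i hi
  interval_cases i
  · exact cls_hclo_0
  · exact cls_hclo_1
  · exact cls_hclo_2
  · exact cls_hclo_3
  · exact cls_hclo_4
  · exact cls_hclo_5
  · exact cls_hclo_6
  · exact cls_hclo_7
  · exact cls_hclo_8
  · exact cls_hclo_9
  · exact cls_hclo_10
  · exact cls_hclo_11
  · exact cls_hclo_12
  · exact cls_hclo_13
  · exact cls_hclo_14
  · exact cls_hclo_15
  · exact cls_hclo_16
  · exact cls_hclo_17
  · exact cls_hclo_18
  · exact cls_hclo_19
  · exact cls_hclo_20
  · exact cls_hclo_21
  · exact cls_hclo_22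
  · exact cls_hclo_23
  · exact cls_hclo_24
  · exact cls_hclo_25
  · exact cls_hclo_26
  · exact cls_hclo_27
  · exact cls_hclo_28
  · exact cls_hclo_29
  · exact cls_hclo_30
  · exact cls_hclo_31
  · exact cls_hclo_32
  · exact cls_hclo_33
  · exact cls_hclo_34
  · exact cls_hclo_35
  · exact cls_hclo_36
  · exact cls_hclo_37
  · exact cls_hclo_38
  · exact cls_hclo_39
  · exact cls_hclo_40
  · exact cls_hclo_41
  · exact cls_hclo_42
  · exact cls_hclo_43
  · exact cls_hclo_44
  · exact cls_hclo_45
  · exact cls_hclo_46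
  · exact cls_hclo_47
  · exact cls_hclo_48
  · exact cls_hclo_49
  · exact cls_hclo_50
  · exact cls_hclo_51
  · exact cls_hclo_52
  · exact cls_hclo_53
  · exact cls_hclo_54
  · exact cls_hclo_55
  · exact cls_hclo_56
  · exact cls_hclo_57
  · exact cls_hclo_58
  · exact cls_hclo_59
  · exact cls_hclo_60
  · exact cls_hclo_61
  · exact cls_hclo_62
  · exact cls_hclo_63
  · exact cls_hclo_64
  · exact cls_hclo_65
  · exact cls_hclo_66
  · exact cls_hclo_67
  · exact cls_hclo_68
  · exact cls_hclo_69
  · exact cls_hclo_70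
  · exact cls_hclo_71
  · exact cls_hclo_72
  · exact cls_hclo_73
  · exact cls_hclo_74
  · exact cls_hclo_75
  · exact cls_hclo_76
  · exact cls_hclo_77
  · exact cls_hclo_78
  · exact cls_hclo_79
  · exact cls_hclo_80
  · exact cls_hclo_81
  · exact cls_hclo_82
  · exact cls_hclo_83
  · exact cls_hclo_84
  · exact cls_hclo_85
  · exact cls_hclo_86
  · exact cls_hclo_87
  · exact cls_hclo_88
  · exact cls_hclo_89
  · exact cls_hclo_90
  · exact cls_hclo_91
  · exact cls_hclo_92
  · exact cls_hclo_93
  · exact cls_hclo_94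
  · exact cls_hclo_95
  · exact cls_hclo_96
  · exact cls_hclo_97
  · exact cls_hclo_98
  · exact cls_hclo_99
  · exact cls_hclo_100
  · exact cls_hclo_101
  · exact cls_hclo_102
  · exact cls_hclo_103
  · exact cls_hclo_104
  · exact cls_hclo_105
  · exact cls_hclo_106
  · exact cls_hclo_107
  · exact cls_hclo_108
  · exact cls_hclo_109
  · exact cls_hclo_110
  · exact cls_hclo_111
  · exact cls_hclo_112
  · exact cls_hclo_113
  · exact cls_hclo_114
  · exact cls_hclo_115
  · exact cls_hclo_116
  · exact cls_hclo_117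
  · exact cls_hclo_118
  · exact cls_hclo_119
  · exact cls_hclo_120
  · exact cls_hclo_121
  · exact cls_hclo_122
  · exact cls_hclo_123
  · exact cls_hclo_124
  · exact cls_hclo_125
  · exact cls_hclo_126
  · exact cls_hclo_127
  · exact cls_hclo_128
  · exact cls_hclo_129
  · exact cls_hclo_130
  · exact cls_hclo_131
  · exact cls_hclo_132
  · exact cls_hclo_133
  · exact cls_hclo_134
  · exact cls_hclo_135
  · exact cls_hclo_136
  · exact cls_hclo_137
  · exact cls_hclo_138
  · exact cls_hclo_139
  · exact cls_hclo_140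
  · exact cls_hclo_141
  · exact cls_hclo_142
  · exact cls_hclo_143
  · exact cls_hclo_144
  · exact cls_hclo_145
  · exact cls_hclo_146
  · exact cls_hclo_147
  · exact cls_hclo_148
  · exact cls_hclo_149
  · exact cls_hclo_150
  · exact cls_hclo_151
  · exact cls_hclo_152
  · exact cls_hclo_153
  · exact cls_hclo_154
  · exact cls_hclo_155
  · exact cls_hclo_156
  · exact cls_hclo_157
  · exact cls_hclo_158
  · exact cls_hclo_159
  · exact cls_hclo_160
  · exact cls_hclo_161
  · exact cls_hclo_162
  · exact cls_hclo_163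
  · exact cls_hclo_164
  · exact cls_hclo_165
  · exact cls_hclo_166
  · exact cls_hclo_167
  · exact cls_hclo_168
  · exact cls_hclo_169
  · exact cls_hclo_170
  · exact cls_hclo_171
  · exact cls_hclo_172
  · exact cls_hclo_173
  · exact cls_hclo_174
  · exact cls_hclo_175
  · exact cls_hclo_176
  · exact cls_hclo_177
  · exact cls_hclo_178
  · exact cls_hclo_179
  · exact cls_hclo_180
  · exact cls_hclo_181
  · exact cls_hclo_182
  · exact cls_hclo_183
  · exact cls_hclo_184
  · exact cls_hclo_185
  · exact cls_hclo_186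
  · exact cls_hclo_187
  · exact cls_hclo_188
  · exact cls_hclo_189
  · exact cls_hclo_190
  · exact cls_hclo_191
  · exact cls_hclo_192
  · exact cls_hclo_193
  · exact cls_hclo_194
  · exact cls_hclo_195
  · exact cls_hclo_196
  · exact cls_hclo_197
  · exact cls_hclo_198
  · exact cls_hclo_199
  · exact cls_hclo_200
  · exact cls_hclo_201
  · exact cls_hclo_202
  · exact cls_hclo_203
  · exact cls_hclo_204
  · exact cls_hclo_205
  · exact cls_hclo_206
  · exact cls_hclo_207
  · exact cls_hclo_208
  · exact cls_hclo_209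
  · exact cls_hclo_210
  · exact cls_hclo_211
  · exact cls_hclo_212
  · exact cls_hclo_213
  · exact cls_hclo_214
  · exact cls_hclo_215
  · exact cls_hclo_216
  · exact cls_hclo_217
  · exact cls_hclo_218
  · exact cls_hclo_219
  · exact cls_hclo_220
  · exact cls_hclo_221
  · exact cls_hclo_222
  · exact cls_hclo_223
  · exact cls_hclo_224
  · exact cls_hclo_225
  · exact cls_hclo_226
  · exact cls_hclo_227
  · exact cls_hclo_228
  · exact cls_hclo_229
  · exact cls_hclo_230
  · exact cls_hclo_231
  · exact cls_hclo_232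
  · exact cls_hclo_233
  · exact cls_hclo_234
  · exact cls_hclo_235
  · exact cls_hclo_236
  · exact cls_hclo_237
  · exact cls_hclo_238
  · exact cls_hclo_239
  · exact cls_hclo_240
  · exact cls_hclo_241
  · exact cls_hclo_242
  · exact cls_hclo_243
  · exact cls_hclo_244
  · exact cls_hclo_245
  · exact cls_hclo_246
  · exact cls_hclo_247
  · exact cls_hclo_248
  · exact cls_hclo_249
  · exact cls_hclo_250
  · exact cls_hclo_251
  · exact cls_hclo_252

set_option maxRecDepth 1000000 in
theorem cls_hb : andB (ltB dCl.bI dE.p) (andB (ltB dCl.bJ dCl.R) (agreeL dC.bs (T dD dE.iB) (crF dD dE dCl dCl.bI dCl.bJ))) = true := by decide +kernel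

set_option maxRecDepth 1000000 in
theorem cls_hb2 : allB (fun x => Nat.beq (T dD dE.iB (T dD dE.iB x)) x) dD.n = true := by decide +kernel

theorem clsOK : ClsOK dD dC dE dCl := { hclo := cls_hclo, hb := cls_hb, hb2 := cls_hb2 }

set_option maxRecDepth 1000000 in
theorem tst_hrels : relsOK dD dE dTs.rels = true := by decide +kernel

theorem tst_htst : ∀ v, v < dTs.K0.length * dCl.R → testChk dD dC dE dCl dTs v = true := by
  intro v hv
  have h2 : dTs.K0.length * dCl.R = 14850 := by decide
  rw [h2] at hv
  have hv' : v < 30 * 495 := by omega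
  refine allC_true (K := 30) (c := 495) ?_ hv'
  intro i hi
  interval_cases i
  · exact tst_htst_0
  · exact tst_htst_1
  · exact tst_htst_2
  · exact tst_htst_3
  · exact tst_htst_4
  · exact tst_htst_5
  · exact tst_htst_6
  · exact tst_htst_7
  · exact tst_htst_8
  · exact tst_htst_9
  · exact tst_htst_10
  · exact tst_htst_11
  · exact tst_htst_12
  · exact tst_htst_13
  · exact tst_htst_14
  · exact tst_htst_15
  · exact tst_htst_16
  · exact tst_htst_17
  · exact tst_htst_18
  · exact tst_htst_19
  · exact tst_htst_20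
  · exact tst_htst_21
  · exact tst_htst_22
  · exact tst_htst_23
  · exact tst_htst_24
  · exact tst_htst_25
  · exact tst_htst_26
  · exact tst_htst_27
  · exact tst_htst_28
  · exact tst_htst_29

theorem tstOK : TstOK dD dC dE dCl dTs := { hrels := tst_hrels, htst := tst_htst }

theorem hK0aux : ∀ k < 23, 0 < k → ∃ j < 23, ∃ k0 ∈ [1, 5], (k * 2 ^ j) % 23 = k0 % 23 := by
  decide

theorem hK0 : ∀ k, 0 < k → k < dE.p → ∃ j : ℕ, ∃ k0 ∈ dTs.K0, (k * dE.r ^ j) % dE.p = k0 % dE.p := by
  intro k h0 hp
  obtain ⟨j, -, k0, hk0, hj⟩ := hK0aux k hp h0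
  exact ⟨j, k0, hk0, hj⟩

instance factP : Fact (Nat.Prime dE.p) := ⟨by norm_num [dE]⟩

theorem hp2 : ¬ dE.p ^ 2 ∣ 495766656000 := by decide

end Cfsg.Agent.Helper9.Co3O

end
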