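import Mathlib
import Cfsg.Agent.Helper9.Co3O.Chk
import Cfsg.Agent.Helper9.Co3O.BrChk
import Cfsg.Agent.Helper9.LeechAct.Stab
import Cfsg.Agent.Helper9.Leech.Co3Simple
import Cfsg.Agent.Helper9.HeO.Abs

set_option autoImplicit false

/-! The outer automorphism group of the stabilizer of the vector has one element. -/

noncomputable section

namespace Cfsg.Agent.Helper9.Co3O

open Cfsg Cfsg.Agent.Helper9.Golay Cfsg.Agent.Helper9.Leech Cfsg.Agent.Helper9.OutG
open Cfsg.Agent.Helper9.LeechAct

theorem mem_Co3_iff (g : Equiv.Perm ↥leechLattice) :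
    g ∈ Spor.Co3 ↔ g ∈ Co0 ∧ g Spor.leechV = Spor.leechV := by
  unfold Spor.Co3
  rw [Subgroup.mem_inf, MulAction.mem_stabilizer_iff]
  rfl

theorem coeV : ((Spor.leechV : ↥leechLattice) : GolayPt → ℤ) = toVec (dFix.getD 0 []) := by
  funext p
  revert p
  decide

theorem normV : sqNorm ((Spor.leechV : ↥leechLattice) : GolayPt → ℤ) = 48 := by decide

theorem co3_fin : Finite ↥Spor.Co3 ∧ Nat.card ↥Spor.Co3 ≤ 495766656000 :=
  finite_card_le (by norm_num) (co3_simple_card Spor.leechV normV).2
    (single_mem Spor.leechV (fun g hg => (mem_Co3_iff g).1 hg))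

theorem out_Co3 : Nat.card (Cfsg.Out ↥Spor.Co3) = 1 := by
  have := co3_fin.1
  have hx0 : (((-Spor.leechU : ↥leechLattice) : ↥leechLattice) : GolayPt → ℤ) =
      toVec (dBr.pt dBr.rt) := by
    have e : dBr.pt dBr.rt = [-4, 0, 0, 0, 0, 0, 0, 0, 0, 0, 0, 0, 0, 0, 0, 0, 0, 0, 0, 0, 0,
      0, 0, -4] := by decide +kernel
    rw [e]
    funext p
    revert p
    decide
  obtain ⟨⟨e⟩, hN⟩ := bridgeF core brOK Spor.Co3 co3_fin.2
    [(Spor.leechV, dFix.getD 0 [])]
    (by
      intro f hf
      simp only [List.mem_cons, List.not_mem_nil, or_false] at hf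
      rcases hf with rfl
      exact coeV)
    (by decide)
    (by
      intro f hf
      simp only [List.mem_cons, List.not_mem_nil, or_false] at hf
      rcases hf with rfl
      decide)
    (by
      intro g hg hfx
      rw [mem_Co3_iff]
      exact ⟨hg, hfx (Spor.leechV, dFix.getD 0 []) List.mem_cons_self⟩)
    (-Spor.leechU) hx0
  rw [Cfsg.Agent.Helper9.HeO.card_out_congr e]
  exact out_one core hN genOK sylOK (by decide) clsOK (by decide) tstOK hp2 hK0 (by decide)
    (by decide)

end Cfsg.Agent.Helper9.Co3O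

end
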