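import Mathlib
import Cfsg.Agent.Helper9.Co3O.Data

set_option autoImplicit false
set_option Elab.async false

/-! Kernel checks of the certificates, a part. -/

noncomputable section

namespace Cfsg.Agent.Helper9.Co3O

open Cfsg.Agent.Helper9.OutG Cfsg.Agent.Helper9.J3

set_option maxRecDepth 1000000 in
theorem tst_htst_23 : allC (testChk dD dC dE dCl dTs) 23 495 = true := by decide +kernel

set_option maxRecDepth 1000000 in
theorem tst_htst_24 : allC (testChk dD dC dE dCl dTs) 24 495 = true := by decide +kernel

set_option maxRecDepth 1000000 in
theorem tst_htst_25 : allC (testChk dD dC dE dCl dTs) 25 495 = true := by decide +kernel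

set_option maxRecDepth 1000000 in
theorem tst_htst_26 : allC (testChk dD dC dE dCl dTs) 26 495 = true := by decide +kernel

set_option maxRecDepth 1000000 in
theorem tst_htst_27 : allC (testChk dD dC dE dCl dTs) 27 495 = true := by decide +kernel

set_option maxRecDepth 1000000 in
theorem tst_htst_28 : allC (testChk dD dC dE dCl dTs) 28 495 = true := by decide +kernel

set_option maxRecDepth 1000000 in
theorem tst_htst_29 : allC (testChk dD dC dE dCl dTs) 29 495 = true := by decide +kernel

end Cfsg.Agent.Helper9.Co3O

end
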